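import Groth.Agent.StratCoh.Acyclic
import Groth.Agent.CohQC.Push
import Groth.Agent.CohQC.QuasiAffine
import Groth.Agent.CohQC.AffineHomCrit
import Groth.Agent.DvrDom.ClosedProper
import Groth.Agent.RedKer.Basic
import Groth.Prelude.Def_MoreMor

/-!
# Cohomology and affine stratifications
-/

universe u

set_option autoImplicit false
set_option linter.style.haveILetI false
set_option backward.isDefEq.respectTransparency false

open CategoryTheory CategoryTheory.Limits AlgebraicGeometry TopologicalSpace Opposite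
open Groth.Agent.SiteCoh

noncomputable section

namespace Groth.Agent.StratCoh

open QC WeakAssLib

variable {X : Scheme.{u}}

theorem compactSpace_of_strat {n : ℕ} (h : MoreMor.HasAffineStratification X n) : CompactSpace X := by
  obtain ⟨s, -, hι⟩ := h
  choose Z ι hi hZ ha hr using hι
  have hcov : (Set.univ : Set X) = ⋃ i, Set.range (ι i) :=
    (Set.eq_univ_of_forall fun x => Set.mem_iUnion.2 ⟨s x, (hr (s x)).ge rfl⟩).symm
  refine ⟨hcov ▸ isCompact_iUnion fun i => ?_⟩
  haveI := hZ i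
  exact isCompact_range (ι i).continuous

theorem quasiSeparatedSpace_of_strat {n : ℕ} (h : MoreMor.HasAffineStratification X n) : QuasiSeparatedSpace X := by
  obtain ⟨s, -, hι⟩ := h
  choose Z ι hi hZ ha hr using hι
  rw [quasiSeparatedSpace_iff_forall_affineOpens]
  intro U V
  have hcov : (U.1 : Set X) ∩ V.1 = ⋃ i, ι i '' ((ι i ⁻¹ᵁ U.1 : Set (Z i)) ∩ (ι i ⁻¹ᵁ V.1 : Set (Z i))) := by
    refine Set.Subset.antisymm (fun x hx => ?_) (Set.iUnion_subset fun i => by rintro _ ⟨z, hz, rfl⟩; exact hz)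
    obtain ⟨z, hz⟩ := (hr (s x)).ge (rfl : s x = s x)
    exact Set.mem_iUnion.2 ⟨s x, z, ⟨show ι (s x) z ∈ (U.1 : Set X) by rw [hz]; exact hx.1, show ι (s x) z ∈ (V.1 : Set X) by rw [hz]; exact hx.2⟩, hz⟩
  rw [hcov]
  refine isCompact_iUnion fun i => IsCompact.image ?_ (ι i).continuous
  haveI := hZ i
  haveI := ha i
  exact QuasiSeparatedSpace.inter_isCompact _ _ (ι i ⁻¹ᵁ U.1).2 (U.2.preimage (ι i)).isCompact
    (ι i ⁻¹ᵁ V.1).2 (V.2.preimage (ι i)).isCompact

/-- The reduced structure on the image of an affine scheme is affine over the same opens. -/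
theorem isAffineOpen_red {Z : Scheme.{u}} (ι : Z ⟶ X) [IsClosedImmersion ι] (T : Closeds X)
    (hr : Set.range ι = (T : Set X)) (O : X.Opens) (hO : IsAffineOpen (ι ⁻¹ᵁ O)) :
    IsAffineOpen (red T ⁻¹ᵁ O) := by
  let zr := (Scheme.IdealSheafData.vanishingIdeal (⊤ : Closeds Z)).subschemeι
  haveI : IsReduced (Scheme.IdealSheafData.vanishingIdeal (⊤ : Closeds Z)).subscheme :=
    DvrDom.isReduced_vanishingIdeal_subscheme _
  have hzr : Function.Surjective zr := fun z => by
    have : z ∈ Set.range zr := by rw [show zr = red (⊤ : Closeds Z) from rfl, range_red]; trivial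
    exact this
  have hle : (red T).ker ≤ (zr ≫ ι).ker := by
    rw [Scheme.IdealSheafData.ker_subschemeι]
    refine RedKer.vanishingIdeal_le_ker _ _ ?_
    rintro _ ⟨w, rfl⟩
    exact hr.le ⟨zr w, rfl⟩
  let h := IsClosedImmersion.lift (red T) (zr ≫ ι) hle
  have hh : h ≫ red T = zr ≫ ι := IsClosedImmersion.lift_fac _ _ _
  haveI : IsClosedImmersion (h ≫ red T) := by rw [hh]; infer_instance
  haveI : IsClosedImmersion h := IsClosedImmersion.of_comp h (red T)
  haveI hs : Surjective h := ⟨fun w => by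
    obtain ⟨z, hz⟩ := hr.ge ((range_red T).le ⟨w, rfl⟩)
    obtain ⟨v, rfl⟩ := hzr z
    refine ⟨v, (red T).isEmbedding.injective ?_⟩
    rw [← Scheme.Hom.comp_apply, hh, Scheme.Hom.comp_apply, hz]⟩
  haveI : Surjective (h ∣_ (red T ⁻¹ᵁ O)) := IsZariskiLocalAtTarget.restrict hs _
  haveI : IsAffine (h ⁻¹ᵁ (red T ⁻¹ᵁ O) : Scheme.{u}) := by
    rw [← Scheme.Hom.comp_preimage, hh, Scheme.Hom.comp_preimage]
    exact hO.preimage zr
  exact NilAffine.isAffine_of_surjective (h ∣_ (red T ⁻¹ᵁ O))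

/-- Vanishing on opens with affine trace on an affine closed subscheme. -/
theorem hu_vanish_closed [CompactSpace X] [QuasiSeparatedSpace X] {Z : Scheme.{u}} (ι : Z ⟶ X)
    [IsClosedImmersion ι] (hc : IsCompact (Set.range ι)ᶜ) (K : X.Modules) (hK : Coh.IsQCoh K)
    (hsupp : CohB1.support K ⊆ Set.range ι) (O : X.Opens) (hO : IsAffineOpen (ι ⁻¹ᵁ O)) (p : ℕ) :
    Subsingleton (CohSite.HU (Coh.toAb K) (p + 1) O) := by
  have hcl : IsClosed (Set.range ι) := ι.isClosedEmbedding.isClosed_range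
  obtain ⟨I, -, -, -, -, -, -, hfg, hI⟩ := exists_ftIdeal ⟨(Set.range ι)ᶜ, hcl.isOpen_compl⟩ hc
  have hIT : I.support = (⟨Set.range ι, hcl⟩ : Closeds X) := by
    ext1
    rw [hI]
    exact compl_compl _
  exact hu_vanish_of_trace I hfg _ hIT hK hsupp O (isAffineOpen_red ι _ rfl O hO) p

theorem hh_of_hu {M : X.Modules} {n : ℕ} (h : Subsingleton (CohSite.HU (Coh.toAb M) n ⊤)) :
    Subsingleton (Coh.HH X M n) :=
  (huTerminalEquiv _ isTerminalTop _ _).toEquiv.subsingleton

theorem subsingleton_hh_left {S : ShortComplex X.Modules} (hS : S.ShortExact) (q : ℕ)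
    (hB : Subsingleton (Coh.HH X S.X₂ (q + 1))) (hC : Subsingleton (Coh.HH X S.X₃ q)) :
    Subsingleton (Coh.HH X S.X₁ (q + 1)) := by
  refine subsingleton_of_forall_eq 0 fun x => ?_
  obtain ⟨y, hy⟩ := Abelian.Ext.covariant_sequence_exact₁ (constZ (Opens.grothendieckTopology X))
    (CohQC.seq_shortExact hS) x (@Subsingleton.elim _ hB _ _) rfl
  rw [← hy, @Subsingleton.elim _ hC y 0, Abelian.Ext.zero_comp]

/-- Cohomology vanishes above the height of the strata of the support. -/
theorem hh_vanish {n : ℕ} (h : MoreMor.HasAffineStratification X n) (s : X → Fin (n + 1))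
    (hs : ∀ i : Fin (n + 1), IsClosed {x : X | s x ≤ i})
    (hι : ∀ i : Fin (n + 1), ∃ (Z : Scheme.{u}) (ι : Z ⟶ X),
      IsImmersion ι ∧ IsAffine Z ∧ IsAffineHom ι ∧ Set.range ι = {x : X | s x = i}) :
    ∀ (m : ℕ) (K : X.Modules), Coh.IsQCoh K → CohB1.support K ⊆ {x : X | (s x : ℕ) ≤ m} →
      ∀ p, m < p → Subsingleton (Coh.HH X K p) := by
  haveI := compactSpace_of_strat h
  haveI := quasiSeparatedSpace_of_strat h
  choose Z ι hi hZ ha hr using hι
  have hupper : ∀ m : ℕ, IsCompact {x : X | m < (s x : ℕ)} := fun m => by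
    have : {x : X | m < (s x : ℕ)} = ⋃ i ∈ {i : Fin (n + 1) | m < (i : ℕ)}, Set.range (ι i) := by
      ext x
      simp only [Set.mem_iUnion, hr, Set.mem_setOf_eq, exists_prop]
      exact ⟨fun hx => ⟨s x, hx, rfl⟩, fun ⟨i, hm, hi⟩ => hi ▸ hm⟩
    rw [this]
    exact (Set.toFinite _).isCompact_biUnion fun i _ => by
      haveI := hZ i
      exact isCompact_range (ι i).continuous
  intro m
  induction m with
  | zero =>
    intro K hK hsupp p hp
    obtain ⟨q, rfl⟩ : ∃ q, p = q + 1 := ⟨p - 1, by omega⟩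
    have hset : {x : X | (s x : ℕ) ≤ 0} = Set.range (ι 0) := by
      rw [hr]
      ext x
      exact ⟨fun h => Fin.ext (Nat.le_zero.1 h), fun h => (congrArg Fin.val h).le⟩
    have hcl : IsClosed (Set.range (ι 0)) := by
      have h0 : {x : X | s x ≤ 0} = Set.range (ι 0) := hset
      exact h0 ▸ hs 0
    haveI := hi 0
    haveI := hZ 0
    haveI : IsClosedImmersion (ι 0) := .of_isPreimmersion _ hcl
    refine hh_of_hu (hu_vanish_closed (ι 0) ?_ K hK (hset ▸ hsupp) ⊤ (isAffineOpen_top _) q)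
    rw [← hset]
    refine (congrArg IsCompact (Set.ext fun x => ?_)).mp (hupper 0)
    exact ⟨fun h h' => Nat.not_le.2 h h', Nat.lt_of_not_le⟩
  | succ m ih =>
    intro K hK hsupp p hp
    by_cases hm : n ≤ m
    · exact ih K hK (fun x hx => (Nat.le_of_lt_succ (s x).isLt).trans hm) p (by omega)
    obtain ⟨q, rfl⟩ : ∃ q, p = q + 1 := ⟨p - 1, by omega⟩
    have hlow : IsClosed {x : X | (s x : ℕ) ≤ m} := hs ⟨m, by omega⟩
    have hlow' : IsClosed {x : X | (s x : ℕ) ≤ m + 1} := hs ⟨m + 1, by omega⟩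
    let W : X.Opens := ⟨{x : X | (s x : ℕ) ≤ m}ᶜ, hlow.isOpen_compl⟩
    let i : Fin (n + 1) := ⟨m + 1, by omega⟩
    haveI := hi i
    haveI := hZ i
    haveI := ha i
    have hW : (W : Set X) = {x : X | m < (s x : ℕ)} := Set.ext fun x =>
      ⟨Nat.lt_of_not_le, fun h h' => Nat.not_le.2 h h'⟩
    have hWc : IsCompact (W : Set X) := hW ▸ hupper m
    haveI : CompactSpace W := isCompact_iff_compactSpace.1 hWc
    haveI : QuasiCompact W.ι := CohQC.quasiCompact_ι hWc
    haveI : QuasiSeparatedSpace W := QuasiSeparatedSpace.of_isOpenEmbedding (f := W.ι) W.ι.isOpenEmbedding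
    have hrW : Set.range (ι i) ⊆ Set.range W.ι := by
      rw [hr, show Set.range W.ι = (W : Set X) from W.range_ι, hW]
      intro x (hx : s x = i)
      show m < (s x : ℕ)
      rw [hx]
      exact Nat.lt_succ_self m
    let j := IsOpenImmersion.lift W.ι (ι i) hrW
    have hj : j ≫ W.ι = ι i := IsOpenImmersion.lift_fac _ _ _
    have hrj : Set.range j = W.ι ⁻¹' {x : X | (s x : ℕ) ≤ m + 1} := by
      ext w
      have hwW : m < (s (W.ι w) : ℕ) := (hW.le (W.range_ι.le ⟨w, rfl⟩) : _)
      constructor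
      · rintro ⟨z, rfl⟩
        have hz : ι i z ∈ Set.range (ι i) := ⟨z, rfl⟩
        rw [hr, ← hj] at hz
        show (s (W.ι (j z)) : ℕ) ≤ m + 1
        rw [show s (W.ι (j z)) = i from hz]
      · intro (hw : (s (W.ι w) : ℕ) ≤ m + 1)
        have hwi : W.ι w ∈ Set.range (ι i) := by
          rw [hr]
          exact Fin.ext (show (s (W.ι w) : ℕ) = m + 1 by omega)
        obtain ⟨z, hz⟩ := hwi
        refine ⟨z, W.ι.isOpenEmbedding.injective ?_⟩
        rw [← hz, ← hj]
        rfl
    haveI : IsPreimmersion (j ≫ W.ι) := by rw [hj]; infer_instance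
    haveI : IsPreimmersion j := IsPreimmersion.of_comp j W.ι
    haveI : IsClosedImmersion j := .of_isPreimmersion _ (hrj ▸ hlow'.preimage W.ι.continuous)
    have hjc : IsCompact (Set.range j)ᶜ := by
      rw [W.ι.isOpenEmbedding.isInducing.isCompact_iff, hrj, ← Set.preimage_compl,
        Set.image_preimage_eq_inter_range, show Set.range W.ι = (W : Set X) from W.range_ι]
      refine (congrArg IsCompact ?_).mp (hupper (m + 1))
      ext x
      simp only [hW, Set.mem_setOf_eq, Set.mem_inter_iff, Set.mem_compl_iff]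
      omega
    let KW := K.restrict W.ι
    have hKW : Coh.IsQCoh KW := isQCoh_restrict W.ι hK
    haveI : KW.IsQuasicoherent := hKW
    have hsuppW : CohB1.support KW ⊆ Set.range j := fun w hw => by
      rw [hrj]
      by_contra hn
      refine hw (subsingleton_of_forall_eq 0 fun a => ?_)
      obtain ⟨O, hwO, b, rfl⟩ := KW.presheaf.exists_germ_eq (x := w) a
      let O' : (W : Scheme.{u}).Opens := O ⊓ (W.ι ⁻¹ᵁ ⟨{x : X | (s x : ℕ) ≤ m + 1}ᶜ, hlow'.isOpen_compl⟩)
      have h0 : QC.res KW (inf_le_left : O' ≤ O) b = 0 :=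
        eq_zero_of_disjoint hsupp (O := W.ι ''ᵁ O') (fun x hx => by
          obtain ⟨v, hv, rfl⟩ := hx
          exact hv.2) _
      refine (mgerm_res KW (inf_le_left : O' ≤ O) (show w ∈ O' from ⟨hwO, hn⟩) b).symm.trans ?_
      rw [h0, map_zero]
    have htrace : ∀ A : X.Opens, IsAffineOpen (ι i ⁻¹ᵁ A) → ∀ q : ℕ,
        Subsingleton (CohSite.HU (Coh.toAb KW) (q + 1) (W.ι ⁻¹ᵁ A)) := fun A hA q =>
      hu_vanish_closed j hjc KW hKW hsuppW (W.ι ⁻¹ᵁ A) (by rw [← Scheme.Hom.comp_preimage, hj]; exact hA) q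
    have hdir : DirectAcyclic (Opens.grothendieckTopology X) (Opens.map W.ι.base) (Coh.toAb KW) := fun q =>
      CohQC.locKilled_of_basis W.ι.base (Coh.toAb KW) (q + 1) {A | IsAffineOpen (X := X) A}
        (fun V y hy => CohQC.exists_affine_le V y hy) fun A hA => htrace A (hA.preimage (ι i)) q
    let P := (Scheme.Modules.pushforward W.ι).obj KW
    have hP : Coh.IsQCoh P := QC.isQCoh_pushforward W.ι
    have hPv : ∀ r : ℕ, Subsingleton (Coh.HH X P (r + 1)) := fun r => by
      obtain ⟨e⟩ := CohQC.hu_push_equiv W.ι (Coh.toAb KW) hdir ⊤ (r + 1)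
      have := htrace ⊤ (isAffineOpen_top _) r
      exact hh_of_hu (e.toEquiv.symm.subsingleton)
    let u : K ⟶ P := Devissage.unitE W K
    have hWm : (W : Set X)ᶜ ⊆ {x : X | (s x : ℕ) ≤ m} := (compl_compl _).le
    let S₁ := ShortComplex.mk (kernel.ι u) (cokernel.π (kernel.ι u)) (cokernel.condition _)
    have hS₁ : S₁.ShortExact := { exact := ShortComplex.exact_of_g_is_cokernel S₁ (cokernelIsCokernel _) }
    let φ := Abelian.factorThruCoimage u
    let S₂ := ShortComplex.mk φ (cokernel.π φ) (cokernel.condition _)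
    have hS₂ : S₂.ShortExact := { exact := ShortComplex.exact_of_g_is_cokernel S₂ (cokernelIsCokernel _) }
    have hqker : Coh.IsQCoh (kernel u) := isQCoh_kernel hK hP u
    have hqco : Coh.IsQCoh (Abelian.coimage u) := isQCoh_cokernel hqker hK _
    have h3 : CohB1.support (cokernel φ) ⊆ {x : X | (s x : ℕ) ≤ m} := fun x hx => by
      by_contra hxm
      refine Devissage.notMem_support_of_surjective S₂ hS₂ x (fun a => ?_) hx
      obtain ⟨O, hxO, b, rfl⟩ := P.presheaf.exists_germ_eq (x := x) a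
      let O' : X.Opens := W.ι ''ᵁ W.ι ⁻¹ᵁ O
      have hxO' : x ∈ O' := by
        show x ∈ W.ι ''ᵁ W.ι ⁻¹ᵁ O
        rw [Devissage.image_preimage_ι]
        exact ⟨hxm, hxO⟩
      let c : Γ(K, O') := b
      refine ⟨mgerm (Abelian.coimage u) hxO' ((Abelian.coimage.π u).app O' c), ?_⟩
      rw [stalkHom_germ]
      have e : φ.app O' ((Abelian.coimage.π u).app O' c) = u.app O' c := by
        rw [← ConcreteCategory.comp_apply, ← Scheme.Modules.Hom.comp_app, Abelian.coimage.fac]
      rw [e]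
      refine Eq.trans ?_ (mgerm_res P (W.ι.image_preimage_le O) hxO' b)
      exact congrArg (mgerm P hxO') rfl
    have hkv : ∀ r, m < r → Subsingleton (Coh.HH X (kernel u) r) :=
      ih _ hqker ((Devissage.support_kernel_unitE W K).trans hWm)
    have hcv : ∀ r, m < r → Subsingleton (Coh.HH X (cokernel φ) r) :=
      ih _ (isQCoh_cokernel hqco hP φ) h3
    exact CohQC.subsingleton_hh_middle hS₁ (q + 1) (hkv _ (by omega))
      (subsingleton_hh_left hS₂ q (hPv q) (hcv q (by omega)))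

end Groth.Agent.StratCoh
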