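import Groth.Agent.StratCoh.Main
import Groth.Agent.Unibranch.Chains
import Groth.Agent.Unibranch.ComponentDim

/-!
# Construction of affine stratifications
-/

universe u

set_option autoImplicit false
set_option linter.style.haveILetI false
set_option backward.isDefEq.respectTransparency false

open CategoryTheory CategoryTheory.Limits AlgebraicGeometry TopologicalSpace Opposite Topology

noncomputable section

namespace Groth.Agent.StratCoh

variable {X : Scheme.{u}}

/-- A finite ordered affine cover gives a stratification once the strata meet a cover in affines. -/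
theorem strat_of_opens {n : ℕ} (D : Fin (n + 1) → X.Opens) (hD : ∀ i, IsAffineOpen (D i))
    (hcov : ∀ x : X, ∃ i, x ∈ D i) {κ : Type u} (V : κ → X.Opens) (hV : ∀ k, IsAffineOpen (V k))
    (hVcov : ∀ x : X, ∃ k, x ∈ V k)
    (h : ∀ i k, (∀ x ∈ D i, (∀ j, i < j → x ∉ D j) → x ∉ V k) ∨
      (∀ x ∈ D i, (∀ j, i < j → x ∉ D j) → x ∈ V k) ∨ IsAffineOpen (D i ⊓ V k)) :
    MoreMor.HasAffineStratification X n := by
  classical
  have hne : ∀ x : X, (Finset.univ.filter fun i => x ∈ D i).Nonempty := fun x =>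
    (hcov x).imp fun i hi => Finset.mem_filter.2 ⟨Finset.mem_univ i, hi⟩
  let s : X → Fin (n + 1) := fun x => (Finset.univ.filter fun i => x ∈ D i).max' (hne x)
  have hsle : ∀ x i, s x ≤ i ↔ ∀ j, i < j → x ∉ D j := fun x i => by
    refine (Finset.max'_le_iff _ (hne x)).trans ⟨fun hle j hj hx => not_lt.2 (hle j (Finset.mem_filter.2 ⟨Finset.mem_univ j, hx⟩)) hj,
      fun hh j hj => not_lt.1 fun hlt => hh j hlt (Finset.mem_filter.1 hj).2⟩
  have hseq : ∀ x i, s x = i ↔ x ∈ D i ∧ ∀ j, i < j → x ∉ D j := fun x i => by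
    refine ⟨fun he => ⟨?_, (hsle x i).1 he.le⟩, fun ⟨h1, h2⟩ => le_antisymm ((hsle x i).2 h2) ?_⟩
    · rw [← he]
      exact (Finset.mem_filter.1 (Finset.max'_mem _ (hne x))).2
    · exact Finset.le_max' _ _ (Finset.mem_filter.2 ⟨Finset.mem_univ i, h1⟩)
  refine ⟨s, fun i => ?_, fun i => ?_⟩
  · have : {x : X | s x ≤ i} = ⋂ j ∈ {j | i < j}, ((D j : Set X))ᶜ := by
      ext x
      simp [hsle]
    rw [this]
    exact isClosed_biInter fun j _ => (D j).2.isClosed_compl
  · let C : Closeds (D i : Scheme.{u}) := ⟨⋂ j ∈ {j | i < j}, ((D i).ι ⁻¹' (D j : Set X))ᶜ,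
      isClosed_biInter fun j _ => ((D j).2.preimage (D i).ι.continuous).isClosed_compl⟩
    let ι := red C ≫ (D i).ι
    haveI : IsAffine (D i : Scheme.{u}) := hD i
    haveI : IsAffine (Scheme.IdealSheafData.vanishingIdeal C).subscheme := isAffine_of_isAffineHom (red C)
    have hr : ∀ w, ι w ∈ D i ∧ ∀ j, i < j → ι w ∉ D j := fun w => by
      refine ⟨(D i).range_ι.le ⟨red C w, rfl⟩, fun j hj => ?_⟩
      have hw : red C w ∈ (C : Set (D i : Scheme.{u})) := (range_red C).le ⟨w, rfl⟩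
      exact Set.mem_iInter₂.1 hw j hj
    refine ⟨_, ι, inferInstance, inferInstance, ?_, ?_⟩
    · refine isAffineHom_of_forall_exists_isAffineOpen _ fun x => ?_
      obtain ⟨k, hk⟩ := hVcov x
      refine ⟨V k, hk, hV k, ?_⟩
      rcases h i k with h' | h' | h'
      · rw [show ι ⁻¹ᵁ V k = ⊥ from le_bot_iff.1 fun w hw => (h' _ (hr w).1 (hr w).2 hw).elim]
        exact isAffineOpen_bot _
      · rw [show ι ⁻¹ᵁ V k = ⊤ from top_le_iff.1 fun w _ => h' _ (hr w).1 (hr w).2]
        exact isAffineOpen_top _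
      · rw [Scheme.Hom.comp_preimage]
        refine IsAffineOpen.preimage ?_ (red C)
        rw [← (D i).ι.isAffineOpen_iff_of_isOpenImmersion, Scheme.Hom.image_preimage_eq_opensRange_inf,
          Scheme.Opens.opensRange_ι]
        exact h'
    · ext x
      refine ⟨?_, fun hx => ?_⟩
      · rintro ⟨w, rfl⟩
        exact (hseq _ i).2 (hr w)
      · obtain ⟨h1, h2⟩ := (hseq x i).1 hx
        obtain ⟨y, rfl⟩ := (D i).range_ι.ge h1
        obtain ⟨w, rfl⟩ := (range_red C).ge (Set.mem_iInter₂.2 h2)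
        exact ⟨w, rfl⟩

/-- A quasi-compact quasi-separated scheme has an affine stratification. -/
theorem exists_strat [CompactSpace X] [QuasiSeparatedSpace X] :
    ∃ n, MoreMor.HasAffineStratification X n := by
  classical
  obtain ⟨σ, hσ, U, hU, -, hcov⟩ := QC.exists_finite_affine_cover (X := X) (W := ⊤) (by simpa using isCompact_univ)
  haveI := Fintype.ofFinite σ
  let VJ : {J : Finset σ // J.Nonempty} → X.Opens := fun J => J.1.inf U
  have hmem : ∀ J x, x ∈ VJ J ↔ ∀ j ∈ J.1, x ∈ U j := fun J x => by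
    show x ∈ J.1.inf U ↔ _
    induction J.1 using Finset.induction with
    | empty => simp
    | insert a s _ ih =>
      rw [Finset.inf_insert, Opens.mem_inf, ih]
      simp
  have hqs : ∀ J, IsCompact (VJ J : Set X) := fun J => by
    obtain ⟨J, hJ⟩ := J
    show IsCompact ((J.inf U : X.Opens) : Set X)
    induction hJ using Finset.Nonempty.cons_induction with
    | singleton a => simpa using (hU a).isCompact
    | cons a s ha hs ih =>
      rw [Finset.inf_cons]
      exact QuasiSeparatedSpace.inter_isCompact _ _ (U a).2 (hU a).isCompact (s.inf U).2 ih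
  choose τ hτ A hA hAle hAcov using fun J => QC.exists_finite_affine_cover (X := X) (W := VJ J) (hqs J)
  let P := Σ J, τ J
  let M := Fintype.card P
  let e := Fintype.equivFin P
  let T := Fintype.card σ
  let n := (T + 2) * (M + 1) - 1
  have hn : n + 1 = (T + 2) * (M + 1) := Nat.sub_add_cancel (Nat.one_le_iff_ne_zero.2 (Nat.mul_ne_zero (by omega) (by omega)))
  let D : Fin (n + 1) → X.Opens := fun i =>
    if h : (i : ℕ) % (M + 1) < M then
      (if (e.symm ⟨_, h⟩).1.1.card = (i : ℕ) / (M + 1) then A (e.symm ⟨_, h⟩).1 (e.symm ⟨_, h⟩).2 else ⊥)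
    else ⊥
  have hidx : ∀ p : P, ∃ i : Fin (n + 1), D i = A p.1 p.2 ∧ (i : ℕ) = p.1.1.card * (M + 1) + (e p : ℕ) := fun p => by
    have hc : p.1.1.card ≤ T := p.1.1.card_le_univ
    have hlt : p.1.1.card * (M + 1) + (e p : ℕ) < n + 1 := by
      rw [hn]
      have h1 : p.1.1.card * (M + 1) ≤ T * (M + 1) := Nat.mul_le_mul_right _ hc
      have h2 := (e p).2
      rw [Nat.add_mul]
      omega
    refine ⟨⟨_, hlt⟩, ?_, rfl⟩
    have h1 : (p.1.1.card * (M + 1) + (e p : ℕ)) % (M + 1) = (e p : ℕ) := by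
      rw [Nat.add_comm, Nat.add_mul_mod_self_right, Nat.mod_eq_of_lt ((e p).2.trans (Nat.lt_succ_self M))]
    have h2 : (p.1.1.card * (M + 1) + (e p : ℕ)) / (M + 1) = p.1.1.card := by
      rw [Nat.add_comm, Nat.add_mul_div_right _ _ (Nat.succ_pos M), Nat.div_eq_of_lt ((e p).2.trans (Nat.lt_succ_self M)), Nat.zero_add]
    have h3 : ∀ h, e.symm ⟨(p.1.1.card * (M + 1) + (e p : ℕ)) % (M + 1), h⟩ = p := fun h => by
      exact (congrArg e.symm (Fin.ext h1 : (⟨_, h⟩ : Fin (Fintype.card P)) = e p)).trans (e.symm_apply_apply p)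
    simp only [D]
    rw [dif_pos (lt_of_eq_of_lt h1 (e p).2), h2, h3, if_pos rfl]
  refine ⟨n, strat_of_opens D (fun i => ?_) (fun x => ?_) U hU (fun x => hcov x trivial) fun i k => ?_⟩
  · simp only [D]
    split_ifs
    exacts [hA _ _, isAffineOpen_bot _, isAffineOpen_bot _]
  · obtain ⟨j, hj⟩ := hcov x trivial
    let J : {J : Finset σ // J.Nonempty} := ⟨{j}, Finset.singleton_nonempty j⟩
    obtain ⟨l, hl⟩ := hAcov J x ((hmem J x).2 (by simpa [J] using hj))
    obtain ⟨i, hi, -⟩ := hidx ⟨J, l⟩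
    exact ⟨i, hi.symm ▸ hl⟩
  · by_cases h1 : (i : ℕ) % (M + 1) < M
    swap
    · exact Or.inl fun x hx => by
        have : D i = ⊥ := by simp only [D]; rw [dif_neg h1]
        exact absurd (this ▸ hx) (by simp)
    obtain ⟨p, hp⟩ : ∃ p, p = e.symm ⟨_, h1⟩ := ⟨_, rfl⟩
    by_cases h2 : p.1.1.card = (i : ℕ) / (M + 1)
    swap
    · exact Or.inl fun x hx => by
        have : D i = ⊥ := by simp only [D]; rw [dif_pos h1, ← hp, if_neg h2]
        exact absurd (this ▸ hx) (by simp)
    have hDi : D i = A p.1 p.2 := by simp only [D]; rw [dif_pos h1, ← hp, if_pos h2]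
    by_cases hk : k ∈ p.1.1
    · exact Or.inr (Or.inl fun x hx _ => (hmem p.1 x).1 (hAle p.1 p.2 (hDi ▸ hx)) k hk)
    refine Or.inl fun x hx hmax hxk => ?_
    let J : {J : Finset σ // J.Nonempty} := ⟨insert k p.1.1, Finset.insert_nonempty _ _⟩
    have hxJ : x ∈ VJ J := (hmem J x).2 fun j hj => by
      rcases Finset.mem_insert.1 hj with rfl | hj
      exacts [hxk, (hmem p.1 x).1 (hAle p.1 p.2 (hDi ▸ hx)) j hj]
    obtain ⟨l, hl⟩ := hAcov J x hxJ
    obtain ⟨j, hj, hjv⟩ := hidx ⟨J, l⟩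
    refine hmax j ?_ (hj.symm ▸ hl)
    have hJ : J.1.card = p.1.1.card + 1 := Finset.card_insert_of_notMem hk
    show (i : ℕ) < (j : ℕ)
    rw [hjv, hJ, h2, Nat.add_mul, Nat.one_mul]
    have hdm := Nat.div_add_mod (i : ℕ) (M + 1)
    rw [Nat.mul_comm] at hdm
    omega

/-- A noetherian scheme has an affine dense open with affine inclusion. -/
theorem exists_affineHom_dense [IsNoetherian X] :
    ∃ U : X.Opens, IsAffineOpen U ∧ IsAffineHom U.ι ∧ ∀ ζ : X, Unibranch.IsMaxPt ζ → ζ ∈ U := by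
  classical
  have hirr : (irreducibleComponents (X : Type u)).Finite := NoetherianSpace.finite_irreducibleComponents
  haveI := hirr.to_subtype
  obtain ⟨σ, hσ, V, hV, -, hcov⟩ := QC.exists_finite_affine_cover (X := X) (W := ⊤) (by simpa using isCompact_univ)
  haveI := Fintype.ofFinite σ
  have key : ∀ Z : irreducibleComponents (X : Type u), ∃ A : X.Opens, IsAffineOpen A ∧
      ∃ ζ, closure {ζ} = Z.1 ∧ Unibranch.IsMaxPt ζ ∧ ζ ∈ A ∧ (∀ w ∈ A, ζ ⤳ w) ∧ ∀ k, ζ ∈ V k → A ≤ V k := by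
    intro Z
    obtain ⟨ζ, hζ, hζZ⟩ := Unibranch.exists_isMaxPt Z.2
    let S := ⋃₀ (irreducibleComponents (X : Type u) \ {Z.1})
    have hSc : IsClosed S := by
      rw [show S = _ from Set.sUnion_eq_biUnion]
      exact Set.Finite.isClosed_biUnion (hirr.subset Set.sdiff_subset) fun T hT => isClosed_of_mem_irreducibleComponents T hT.1
    have hζS : ζ ∉ S := fun ⟨T, hT, hζT⟩ => hT.2 (le_antisymm
      (Z.2.2 hT.1.1 (hζZ ▸ closure_minimal (Set.singleton_subset_iff.2 hζT) (isClosed_of_mem_irreducibleComponents T hT.1)))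
      (hζZ ▸ closure_minimal (Set.singleton_subset_iff.2 hζT) (isClosed_of_mem_irreducibleComponents T hT.1)))
    let G : X.Opens := ⟨Sᶜ, hSc.isOpen_compl⟩ ⊓ (Finset.univ.filter fun k => ζ ∈ V k).inf V
    have hfin : ∀ (t : Finset σ) (x : X), x ∈ t.inf V ↔ ∀ k ∈ t, x ∈ V k := fun t x => by
      induction t using Finset.induction with
      | empty => simp
      | insert a s _ ih => rw [Finset.inf_insert, Opens.mem_inf, ih]; simp
    obtain ⟨A, hA, hζA, hAG⟩ := exists_isAffineOpen_mem_and_subset (X := X) (x := ζ) (U := G)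
      ⟨hζS, (hfin _ ζ).2 fun k hk => (Finset.mem_filter.1 hk).2⟩
    refine ⟨A, hA, ζ, hζZ, hζ, hζA, fun w hw => ?_, fun k hk w hw =>
      (hfin _ w).1 (hAG hw).2 k (Finset.mem_filter.2 ⟨Finset.mem_univ k, hk⟩)⟩
    by_contra hn
    refine (hAG hw).1 ⟨irreducibleComponent w, ⟨irreducibleComponent_mem_irreducibleComponents w, fun he => hn ?_⟩,
      mem_irreducibleComponent⟩
    exact specializes_iff_mem_closure.2 (hζZ ▸ (Set.mem_singleton_iff.1 he) ▸ mem_irreducibleComponent)
  choose A hA ζ hζZ hζ hζA hAsp hAV using key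
  have hdisj : ∀ Z Z', Z ≠ Z' → Disjoint (A Z) (A Z') := fun Z Z' hne => by
    rw [disjoint_iff]
    refine Opens.ext (Set.eq_empty_iff_forall_notMem.2 fun w ⟨h1, h2⟩ => hne (Subtype.ext ?_))
    have e1 : ζ Z = ζ Z' := by
      refine ((hζ Z' (ζ Z) ?_))
      exact hAsp Z (ζ Z') ((hAsp Z' w h2).mem_open (A Z).2 h1)
    rw [← hζZ Z, ← hζZ Z', e1]
  refine ⟨⨆ Z, A Z, IsAffineOpen.iSup_of_disjoint hA fun Z Z' h => hdisj Z Z' h, ?_, fun η hη => ?_⟩
  · refine isAffineHom_of_forall_exists_isAffineOpen _ fun x => ?_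
    obtain ⟨k, hk⟩ := hcov x trivial
    refine ⟨V k, hk, hV k, ?_⟩
    rw [← Scheme.Hom.isAffineOpen_iff_of_isOpenImmersion (Scheme.Opens.ι _), Scheme.Hom.image_preimage_eq_opensRange_inf,
      Scheme.Opens.opensRange_ι, iSup_inf_eq]
    refine IsAffineOpen.iSup_of_disjoint (fun Z => ?_) fun Z Z' h => (hdisj Z Z' h).mono inf_le_left inf_le_left
    by_cases hz : ζ Z ∈ V k
    · rw [inf_eq_left.2 (hAV Z k hz)]
      exact hA Z
    · rw [show A Z ⊓ V k = ⊥ from le_bot_iff.1 fun w hw => (hz ((hAsp Z w hw.1).mem_open (V k).2 hw.2)).elim]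
      exact isAffineOpen_bot _
  · let Z : irreducibleComponents (X : Type u) := ⟨_, hη.mem_irreducibleComponents⟩
    refine Opens.mem_iSup.2 ⟨Z, ?_⟩
    rw [← Unibranch.eq_of_closure_eq (hζZ Z)]
    exact hζA Z

/-- A closed subset without long chains has a short stratification. -/
theorem exists_strat_of_chains [IsNoetherian X] : ∀ (m : ℕ) (T : Set X), IsClosed T →
    (∀ (l : ℕ) (c : Fin (l + 1) → X), Unibranch.IsChain' c → (∀ i, c i ∈ T) → l < m) →
    ∃ s : X → ℕ, (∀ x ∈ T, s x < m) ∧ (∀ i, IsClosed {x | x ∈ T ∧ s x ≤ i}) ∧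
      ∀ i < m, ∃ (Z : Scheme.{u}) (ι : Z ⟶ X), IsImmersion ι ∧ IsAffine Z ∧ IsAffineHom ι ∧
        Set.range ι = {x | x ∈ T ∧ s x = i} := by
  classical
  intro m
  induction m with
  | zero =>
    intro T hT hch
    have hTe : ∀ x, x ∉ T := fun x hx => Nat.not_lt_zero _ (hch 0 (fun _ => x) (fun i => i.elim0) fun _ => hx)
    refine ⟨fun _ => 0, fun x hx => absurd hx (hTe x), fun i => ?_, fun i hi => absurd hi (Nat.not_lt_zero i)⟩
    rw [show {x | x ∈ T ∧ (fun _ : X => 0) x ≤ i} = ∅ from Set.eq_empty_iff_forall_notMem.2 fun x hx => hTe x hx.1]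
    exact isClosed_empty
  | succ m ih =>
    intro T hT hch
    let C : Closeds X := ⟨T, hT⟩
    haveI : IsLocallyNoetherian (Scheme.IdealSheafData.vanishingIdeal C).subscheme :=
      LocallyOfFiniteType.isLocallyNoetherian (red C)
    haveI : CompactSpace (Scheme.IdealSheafData.vanishingIdeal C).subscheme :=
      QuasiCompact.compactSpace_of_compactSpace (red C)
    haveI : IsNoetherian (Scheme.IdealSheafData.vanishingIdeal C).subscheme := {}
    obtain ⟨U, hU, hUι, hUmax⟩ := exists_affineHom_dense (X := (Scheme.IdealSheafData.vanishingIdeal C).subscheme)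
    haveI : IsAffine (U : Scheme.{u}) := hU
    let ι := U.ι ≫ red C
    have hr : Set.range ι = red C '' (U : Set _) := by
      ext x
      constructor
      · rintro ⟨w, rfl⟩; exact ⟨U.ι w, U.range_ι.le ⟨w, rfl⟩, rfl⟩
      · rintro ⟨y, hy, rfl⟩; obtain ⟨w, rfl⟩ := U.range_ι.ge hy; exact ⟨w, rfl⟩
    let T' : Set X := red C '' (U : Set _)ᶜ
    have hT' : IsClosed T' := (red C).isClosedEmbedding.isClosedMap _ U.2.isClosed_compl
    have hT'T : T' ⊆ T := fun x hx => by
      obtain ⟨y, -, rfl⟩ := hx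
      exact (range_red C).le ⟨y, rfl⟩
    have hsplit : ∀ x ∈ T, x ∉ Set.range ι → x ∈ T' := fun x hx hn => by
      obtain ⟨y, rfl⟩ := (range_red C).ge hx
      exact ⟨y, fun hy => hn (hr.ge ⟨y, hy, rfl⟩), rfl⟩
    obtain ⟨s', hs1, hs2, hs3⟩ := ih T' hT' fun l c hc hcT => by
      obtain ⟨y, hy, hy0⟩ := hcT 0
      obtain ⟨ζ, hζ, hζy⟩ := Unibranch.exists_isMaxPt_specializes y
      have hmem : ∀ i, (Fin.cons (red C ζ) c : Fin (l + 2) → X) i ∈ T := fun i => by
        cases i using Fin.cases with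
        | zero => exact (range_red C).le ⟨ζ, rfl⟩
        | succ i => exact hT'T (hcT i)
      have := hch (l + 1) (Fin.cons (red C ζ) c) (fun i => ?_) hmem
      · omega
      cases i using Fin.cases with
      | zero =>
        simp only [Fin.castSucc_zero, Fin.cons_zero, Fin.cons_succ]
        refine ⟨hy0 ▸ hζy.map (red C).continuous, fun he => hy ?_⟩
        rw [← (red C).isEmbedding.injective (he.trans hy0.symm)]
        exact hUmax ζ hζ
      | succ i => simpa [← Fin.succ_castSucc] using hc i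
    have hT'ι : ∀ x ∈ T', x ∉ Set.range ι := fun x ⟨y, hy, hyx⟩ hx => by
      obtain ⟨y', hy', hy'x⟩ := hr.le hx
      exact hy ((red C).isEmbedding.injective (hy'x.trans hyx.symm) ▸ hy')
    let s : X → ℕ := fun x => if x ∈ Set.range ι then m else s' x
    have hlt : ∀ x ∈ T, x ∉ Set.range ι → s x < m ∧ x ∈ T' ∧ s x = s' x := fun x hx hn =>
      ⟨by simp only [s, if_neg hn]; exact hs1 x (hsplit x hx hn), hsplit x hx hn, if_neg hn⟩
    refine ⟨s, fun x hx => ?_, fun i => ?_, fun i hi => ?_⟩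
    · by_cases hn : x ∈ Set.range ι
      · simp only [s, if_pos hn]; omega
      · exact (hlt x hx hn).1.trans (Nat.lt_succ_self m)
    · by_cases him : m ≤ i
      · rw [show {x | x ∈ T ∧ s x ≤ i} = T from Set.ext fun x => ⟨fun h => h.1, fun h => ⟨h, ?_⟩⟩]
        · exact hT
        · by_cases hn : x ∈ Set.range ι
          · simp only [s, if_pos hn]; omega
          · exact (hlt x h hn).1.le.trans him
      · rw [show {x | x ∈ T ∧ s x ≤ i} = {x | x ∈ T' ∧ s' x ≤ i} from Set.ext fun x => ⟨fun ⟨h, hle⟩ => ?_, fun ⟨h, hle⟩ => ?_⟩]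
        · exact hs2 i
        · by_cases hn : x ∈ Set.range ι
          · simp only [s, if_pos hn] at hle; omega
          · exact ⟨hsplit x h hn, (hlt x h hn).2.2 ▸ hle⟩
        · exact ⟨hT'T h, by simp only [s, if_neg (hT'ι x h)]; exact hle⟩
    · rcases (Nat.lt_succ_iff_lt_or_eq.1 hi) with hi' | rfl
      · obtain ⟨Z, j, h1, h2, h3, h4⟩ := hs3 i hi'
        refine ⟨Z, j, h1, h2, h3, h4.trans (Set.ext fun x => ⟨fun ⟨h, he⟩ => ⟨hT'T h, by simp only [s, if_neg (hT'ι x h)]; exact he⟩, fun ⟨h, he⟩ => ?_⟩)⟩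
        by_cases hn : x ∈ Set.range ι
        · simp only [s, if_pos hn] at he; omega
        · exact ⟨hsplit x h hn, (hlt x h hn).2.2 ▸ he⟩
      · refine ⟨_, ι, inferInstance, inferInstance, inferInstance, Set.ext fun x => ⟨fun h => ⟨?_, if_pos h⟩, fun ⟨h, he⟩ => ?_⟩⟩
        · obtain ⟨w, rfl⟩ := h
          exact (range_red C).le ⟨_, rfl⟩
        · by_contra hn
          exact absurd he (hlt x h hn).1.ne

end Groth.Agent.StratCoh
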