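import Groth.Agent.StratCoh.Killed
import Groth.Agent.CohQC.CechVanish
import Groth.Agent.SupportLib.Unit
import Groth.Agent.NilAffine.Main
import Groth.Agent.QC.Pullback

/-!
# Quasi-coherent modules supported on an affine closed subset are acyclic
-/

universe u

set_option autoImplicit false
set_option linter.style.haveILetI false
set_option backward.isDefEq.respectTransparency false

open CategoryTheory CategoryTheory.Limits AlgebraicGeometry TopologicalSpace Opposite
open Groth.Agent.SiteCoh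

noncomputable section

namespace Groth.Agent.StratCoh

open QC

variable {X : Scheme.{u}}

/-- The reduced closed subscheme on a closed set. -/
abbrev red (T : Closeds X) := (Scheme.IdealSheafData.vanishingIdeal T).subschemeι

lemma range_red (T : Closeds X) : Set.range (red T) = (T : Set X) := by
  rw [Scheme.IdealSheafData.range_subschemeι, Scheme.IdealSheafData.coe_support_vanishingIdeal]

lemma mem_iInf_fin {ι : Type*} [Finite ι] {U : ι → X.Opens} {x : X} : x ∈ ⨅ k, U k ↔ ∀ k, x ∈ U k := by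
  rw [← SetLike.mem_coe, Opens.coe_iInf, Set.mem_iInter]
  rfl

/-- The coverings used in Cartan's criterion. -/
def Cov (T : Closeds X) (ι : Type u) (V : ι → X.Opens) : Prop :=
  IsAffineOpen (red T ⁻¹ᵁ iSup V) ∧ ∃ (t : Finset ι) (g : ι → Γ((Scheme.IdealSheafData.vanishingIdeal T).subscheme, red T ⁻¹ᵁ iSup V)),
    (∀ i ∉ t, red T ⁻¹ᵁ V i = ⊥) ∧ ∀ i ∈ t, red T ⁻¹ᵁ V i = Scheme.basicOpen _ (g i)

lemma trace_inf {T : Closeds X} {ι : Type u} {V : ι → X.Opens} (h : Cov T ι V) (p : ℕ) (a : Fin (p + 1) → ι) :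
    IsAffineOpen (red T ⁻¹ᵁ ⨅ k, V (a k)) := by
  obtain ⟨hU, t, g, hout, hin⟩ := h
  by_cases ha : ∀ k, a k ∈ t
  · have e : red T ⁻¹ᵁ ⨅ k, V (a k) = Scheme.basicOpen _ (∏ k, g (a k)) := by
      rw [CohQC.basicOpen_prod]
      ext x
      show red T x ∈ (⨅ k, V (a k) : X.Opens) ↔ x ∈ (⨅ k, Scheme.basicOpen _ (g (a k)) : _)
      rw [mem_iInf_fin, mem_iInf_fin]
      exact forall_congr' fun k => by rw [← hin _ (ha k)]; rfl
    rw [e]
    exact hU.basicOpen _
  · push Not at ha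
    obtain ⟨k, hk⟩ := ha
    rw [show red T ⁻¹ᵁ ⨅ k, V (a k) = ⊥ from le_bot_iff.1
      ((Scheme.Hom.preimage_mono _ (iInf_le (fun k => V (a k)) k)).trans (hout _ hk).le)]
    exact isAffineOpen_bot _

lemma exists_cov (T : Closeds X) (U : X.Opens) (hU : IsAffineOpen (red T ⁻¹ᵁ U)) {κ : Type u}
    (W : κ → X.Opens) (hW : iSup W = U) :
    ∃ (ι : Type u) (V : ι → X.Opens), Cov T ι V ∧ iSup V = U ∧ ∀ i, ∃ k, V i ≤ W k := by
  classical
  obtain ⟨t, V₀, ⟨ht, U₀, hU₀, g, hg, rfl⟩, hV₀, hle⟩ := CohQC.exists_isBasicCover hU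
    (fun k => red T ⁻¹ᵁ W k) (by rw [← hW, Scheme.Hom.preimage_iSup])
  obtain rfl : U₀ = red T ⁻¹ᵁ U := (CohQC.iSup_basicOpen hU₀ hg).symm.trans hV₀
  haveI := Fintype.ofFinite t
  choose k hk using hle
  have hO : ∀ i, ∃ O : X.Opens, red T ⁻¹ᵁ O = Scheme.basicOpen _ (g i) := fun i => by
    obtain ⟨O, hO, hOe⟩ := (red T).isEmbedding.isInducing.isOpen_iff.1 (Scheme.basicOpen _ (g i)).isOpen
    exact ⟨⟨O, hO⟩, Opens.ext hOe⟩
  choose O hO using hO
  let C : X.Opens := T.compl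
  let V : t ⊕ κ → X.Opens := Sum.elim (fun i => W (k i) ⊓ O i) (fun j => W j ⊓ C)
  have hsup : iSup V = U := by
    refine le_antisymm (iSup_le fun i => ?_) fun x hx => ?_
    · rw [← hW]
      rcases i with i | j
      · exact inf_le_left.trans (le_iSup W _)
      · exact inf_le_left.trans (le_iSup W _)
    · by_cases hxT : x ∈ (T : Set X)
      · obtain ⟨w, rfl⟩ := (range_red T).ge hxT
        have hw : w ∈ red T ⁻¹ᵁ U := hx
        rw [← hV₀] at hw
        obtain ⟨i, hi⟩ := Opens.mem_iSup.1 hw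
        exact Opens.mem_iSup.2 ⟨Sum.inl i, hk i hi, show w ∈ red T ⁻¹ᵁ O i by rw [hO]; exact hi⟩
      · obtain ⟨j, hj⟩ := Opens.mem_iSup.1 (hW.symm ▸ hx : x ∈ iSup W)
        exact Opens.mem_iSup.2 ⟨Sum.inr j, hj, hxT⟩
  refine ⟨t ⊕ κ, V, ?_, hsup, fun i => ?_⟩
  · unfold Cov
    rw [hsup]
    refine ⟨hU, Finset.univ.map ⟨Sum.inl, Sum.inl_injective⟩, Sum.elim g (fun _ => 0), fun i hi => ?_, fun i hi => ?_⟩
    · rcases i with i | j
      · exact absurd (Finset.mem_map.2 ⟨i, Finset.mem_univ i, rfl⟩) hi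
      · refine le_bot_iff.1 fun w hw => ?_
        exact hw.2 ((range_red T).le ⟨w, rfl⟩)
    · obtain ⟨i, -, rfl⟩ := Finset.mem_map.1 hi
      refine le_antisymm (fun w hw => ?_) fun w hw => ⟨hk i hw, ?_⟩
      · exact (hO i).le hw.2
      · exact (hO i).ge hw
  · rcases i with i | j
    exacts [⟨k i, inf_le_left⟩, ⟨j, inf_le_left⟩]

variable {K : X.Modules}

lemma cechExact_cov (I : X.IdealSheafData) (hI : ∀ U : X.affineOpens, (I.ideal U).FG) (T : Closeds X)
    (hIT : I.support = T) (hK : Coh.IsQCoh K) (hsupp : CohB1.support K ⊆ (T : Set X))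
    {ι : Type u} {V : ι → X.Opens} (h : Cov T ι V) (p : ℕ) :
    CechExact V (res' (𝟭 X.Opens) (Coh.toAb K)) p := by
  classical
  obtain ⟨hU, t, g, hout, hin⟩ := id h
  intro x hx
  have hzero : ∀ {q : ℕ} (b : Fin (q + 1) → ι), (¬ ∀ k, b k ∈ t) → ∀ s : Γ(K, tupleProd V b), s = 0 := by
    intro q b hb s
    push Not at hb
    obtain ⟨k, hk⟩ := hb
    refine eq_zero_of_disjoint hsupp (fun y hy hyT => ?_) s
    obtain ⟨w, rfl⟩ := (range_red T).ge hyT
    have : w ∈ red T ⁻¹ᵁ V (b k) := leOfHom (Limits.Pi.π (V ∘ b) k) hy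
    rw [hout _ hk] at this
    exact this
  -- a common power of the ideal
  have hcpt : ∀ a : Fin (p + 1 + 1) → t,
      IsCompact (((tupleProd V (fun k => (a k).1) : X.Opens) : Set X) ∩ (I.support : Set X)) := fun a => by
    have h1 := (trace_inf h _ (fun k => (a k).1)).isCompact.image (red T).continuous
    rw [← tupleProd_eq_iInf] at h1
    refine (congrArg IsCompact ?_).mp h1
    rw [hIT, ← range_red T, ← Set.image_preimage_eq_inter_range]
    rfl
  choose n₀ hn₀ using fun a => exists_mem_killedSub hI hK (hIT.symm ▸ hsupp) (hcpt a) (x (fun k => (a k).1))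
  let n := Finset.univ.sup n₀ + 1
  let J := I ^ n
  let S := killedSub J K
  let L := S.toModules
  have hLq : Coh.IsQCoh L := isQCoh_killedSub (fun U => by
    rw [Scheme.IdealSheafData.ideal_pow, Pi.pow_apply]; exact Submodule.FG.pow (hI U) n) hK
  let i := J.subschemeι
  let η := (Scheme.Modules.pullbackPushforwardAdjunction i).unit.app L
  haveI : IsIso η := (SupportLib.isIso_unit_iff i L).2 fun U a ha s => by
    rw [Scheme.IdealSheafData.ker_subschemeι] at ha
    refine S.ι_app_injective _ ?_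
    rw [Scheme.Modules.Hom.app_smul, map_zero]
    exact (mem_killedSub_affine J K U _).1 ((S.range_ι_app _ _).1 ⟨s, rfl⟩) a ha
  let M := (Scheme.Modules.pullback i).obj L
  haveI : M.IsQuasicoherent := isQCoh_pullback i hLq
  haveI : L.IsQuasicoherent := hLq
  have hη : ∀ O : X.Opens, Function.Bijective (fun s : Γ(L, O) => (η.app O s : Γ(M, i ⁻¹ᵁ O))) := fun O =>
    ConcreteCategory.bijective_of_isIso (η.app O)
  have hηres : ∀ {O' O : X.Opens} (h : O' ≤ O) (s : Γ(L, O)),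
      (η.app O' (res L h s) : Γ(M, i ⁻¹ᵁ O')) = res M (Scheme.Hom.preimage_mono i h) (η.app O s) :=
    fun h s => (app_res η h s).symm
  -- the thickened trace
  have hJT : J ≤ Scheme.IdealSheafData.vanishingIdeal T := by
    rw [← Scheme.IdealSheafData.le_support_iff_le_vanishingIdeal,
      Scheme.IdealSheafData.support_pow _ n (Nat.succ_ne_zero _), hIT]
  let κ := Scheme.IdealSheafData.inclusion hJT
  have hκ : κ ≫ i = red T := Scheme.IdealSheafData.inclusion_subschemeι hJT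
  haveI : IsClosedImmersion (κ ≫ i) := by rw [hκ]; infer_instance
  haveI : IsClosedImmersion κ := IsClosedImmersion.of_comp κ i
  haveI hκs : Surjective κ := ⟨fun w => by
    have hw : i w ∈ Set.range (red T) := by
      rw [range_red, ← hIT, ← Scheme.IdealSheafData.support_pow I n (Nat.succ_ne_zero _),
        ← Scheme.IdealSheafData.range_subschemeι]
      exact ⟨w, rfl⟩
    obtain ⟨v, hv⟩ := hw
    refine ⟨v, i.isEmbedding.injective ?_⟩
    rw [← hv, ← hκ]
    rfl⟩
  have hpre : ∀ O : X.Opens, κ ⁻¹ᵁ (i ⁻¹ᵁ O) = red T ⁻¹ᵁ O := fun O => by rw [← hκ]; rfl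
  have hUn : IsAffineOpen (i ⁻¹ᵁ iSup V) := by
    haveI : IsAffine (κ ⁻¹ᵁ (i ⁻¹ᵁ iSup V) : Scheme.{u}) := by rw [hpre]; exact hU
    haveI : Surjective (κ ∣_ (i ⁻¹ᵁ iSup V)) := IsZariskiLocalAtTarget.restrict hκs _
    exact NilAffine.isAffine_of_surjective (κ ∣_ (i ⁻¹ᵁ iSup V))
  have hlift : ∀ j : t, ∃ G : Γ(J.subscheme, i ⁻¹ᵁ iSup V), i ⁻¹ᵁ V j.1 = Scheme.basicOpen _ G := fun j => by
    obtain ⟨G, hG⟩ := κ.app_surjective _ hUn
      ((Scheme.IdealSheafData.vanishingIdeal T).subscheme.presheaf.map (eqToHom (hpre (iSup V))).op (g j.1))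
    have h' : κ ⁻¹ᵁ (i ⁻¹ᵁ V j.1) = κ ⁻¹ᵁ J.subscheme.basicOpen G := by
      rw [hpre, Scheme.preimage_basicOpen, hG, Scheme.basicOpen_res_eq, hin _ j.2]
    exact ⟨G, Opens.ext (hκs.surj.preimage_injective
      (congrArg (SetLike.coe (A := (Scheme.IdealSheafData.vanishingIdeal T).subscheme.Opens)) h'))⟩
  choose G hG using hlift
  have hspan : Ideal.span (Set.range G) = ⊤ := hUn.self_le_iSup_basicOpen_iff.mp fun w hw => by
    obtain ⟨j, hj⟩ := Opens.mem_iSup.1 (show i w ∈ iSup V from hw)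
    by_cases hjt : j ∈ t
    · exact Opens.mem_iSup.2 ⟨⟨_, ⟨j, hjt⟩, rfl⟩, (hG ⟨j, hjt⟩).le hj⟩
    · obtain ⟨v, rfl⟩ := hκs.surj w
      have : v ∈ red T ⁻¹ᵁ V j := (hpre _).le hj
      rw [hout _ hjt] at this
      exact this.elim
  let W : ∀ q : ℕ, (Fin (q + 1) → t) → J.subscheme.Opens := fun q a => i ⁻¹ᵁ tupleProd V (fun k => (a k).1)
  have hW : ∀ q (a : Fin (q + 1) → t), W q a = Scheme.basicOpen _ (∏ k, G (a k)) := fun q a => by
    rw [CohQC.basicOpen_prod]
    ext w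
    show i w ∈ tupleProd V (fun k => (a k).1) ↔ w ∈ (⨅ k, Scheme.basicOpen _ (G (a k)) : _)
    rw [tupleProd_eq_iInf, mem_iInf_fin, mem_iInf_fin]
    exact forall_congr' fun k => by rw [← hG]; rfl
  have hdrop : ∀ q (b : Fin (q + 2) → t) (k : Fin (q + 2)), W (q + 1) b ≤ W q (b ∘ k.succAbove) := fun q b k =>
    Scheme.Hom.preimage_mono i (leOfHom (tupleDrop V (fun k => (b k).1) k))
  -- the lifted cocycle
  have hmem : ∀ a : Fin (p + 1 + 1) → t, ∃ l : Γ(L, tupleProd V (fun k => (a k).1)),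
      S.ι.app _ l = x (fun k => (a k).1) := fun a =>
    (S.range_ι_app _ _).2 (hn₀ a n ((Finset.le_sup (Finset.mem_univ a)).trans (Nat.le_succ _)))
  choose l hl using hmem
  obtain ⟨y, hy⟩ := CohQC.cocycle_lift (M := M) G (isLoc_of_isQCoh hUn) hspan W hW hdrop
    (fun a => η.app _ (l a)) fun b => by
      have h1 : ∑ k : Fin (p + 1 + 2), (-1 : ℤ) ^ (k : ℕ) •
          res L (leOfHom (tupleDrop V (fun k => (b k).1) k)) (l (b ∘ k.succAbove)) = 0 := by
        refine S.ι_app_injective _ ?_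
        rw [map_zero, map_sum]
        refine Eq.trans (Finset.sum_congr rfl fun k _ => ?_) (congr_fun hx (fun k => (b k).1))
        rw [map_zsmul, ← app_res]
        exact congrArg _ (congrArg (res K _) (hl _))
      refine Eq.trans (Finset.sum_congr rfl fun k _ => ?_) ((congrArg (fun s => (η.app _ s : Γ(M, i ⁻¹ᵁ _))) h1).trans (map_zero _) |> fun e => (map_sum (η.app _).hom _ _).symm.trans e)
      rw [map_zsmul]
      exact congrArg _ (hηres _ _).symm
  have hy' : ∀ a : Fin (p + 1) → t, ∃ l' : Γ(L, tupleProd V (fun k => (a k).1)),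
      (η.app _ l' : Γ(M, i ⁻¹ᵁ _)) = y a := fun a => (hη _).2 (y a)
  choose l' hl' using hy'
  have hsum : ∀ c : Fin (p + 2) → t, ∑ k : Fin (p + 2), (-1 : ℤ) ^ (k : ℕ) •
      res K (leOfHom (tupleDrop V (fun k => (c k).1) k)) (S.ι.app _ (l' (c ∘ k.succAbove))) =
        x (fun k => (c k).1) := fun c => by
    have h1 : ∑ k : Fin (p + 2), (-1 : ℤ) ^ (k : ℕ) •
        res L (leOfHom (tupleDrop V (fun k => (c k).1) k)) (l' (c ∘ k.succAbove)) = l c := by
      refine (hη _).1 ?_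
      refine Eq.trans ?_ (hy c)
      refine (map_sum (η.app _).hom _ _).trans (Finset.sum_congr rfl fun k _ => ?_)
      rw [map_zsmul]
      exact congrArg _ ((hηres (leOfHom (tupleDrop V (fun k => (c k).1) k)) _).trans
        (congrArg (res M (hdrop p c k)) (hl' (c ∘ k.succAbove))))
    refine Eq.trans ?_ (hl c)
    refine Eq.trans ?_ (congrArg (S.ι.app _) h1)
    refine ((map_sum (S.ι.app _).hom _ _).trans (Finset.sum_congr rfl fun k _ => ?_)).symm
    rw [map_zsmul]
    exact congrArg _ (app_res S.ι (leOfHom (tupleDrop V (fun k => (c k).1) k)) _).symm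
  let z : Cochain V (res' (𝟭 X.Opens) (Coh.toAb K)) p := fun a =>
    if h : ∀ k, a k ∈ t then S.ι.app _ (l' (fun k => ⟨a k, h k⟩)) else 0
  refine ⟨z, funext fun b => ?_⟩
  by_cases hb : ∀ k, b k ∈ t
  · refine Eq.trans ?_ (hsum (fun k => ⟨b k, hb k⟩))
    refine Finset.sum_congr rfl fun k _ => congrArg _ (congrArg _ ?_)
    exact dif_pos fun j => hb (k.succAbove j)
  · exact (hzero b hb _).trans (hzero b hb _).symm

/-- Quasi-coherent modules supported on a closed set are acyclic on opens with affine trace. -/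
theorem hu_vanish_of_trace (I : X.IdealSheafData) (hI : ∀ U : X.affineOpens, (I.ideal U).FG) (T : Closeds X)
    (hIT : I.support = T) (hK : Coh.IsQCoh K) (hsupp : CohB1.support K ⊆ (T : Set X))
    (O : X.Opens) (hO : IsAffineOpen (red T ⁻¹ᵁ O)) (p : ℕ) :
    Subsingleton (CohSite.HU (Coh.toAb K) (p + 1) O) :=
  cartanOpens {O : X.Opens | IsAffineOpen (red T ⁻¹ᵁ O)} (Cov T)
    (fun ι V hV => ⟨hV.1, fun q a => trace_inf hV q a⟩)
    (fun U hU κ W hW => exists_cov T U hU W hW)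
    (Coh.toAb K) (fun ι V hV q => cechExact_cov I hI T hIT hK hsupp hV q) O hO p

end Groth.Agent.StratCoh
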