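import Groth.Agent.Devissage.Support
import Groth.Agent.QC.FTIdeal
import Groth.Agent.NilAffine.Extend

/-!
# Sections killed by an ideal of finite type
-/

universe u

set_option autoImplicit false
set_option backward.isDefEq.respectTransparency false

open CategoryTheory CategoryTheory.Limits AlgebraicGeometry TopologicalSpace

noncomputable section

namespace Groth.Agent.StratCoh

open QC WeakAssLib Devissage

variable {X : Scheme.{u}} (K : X.IdealSheafData) (M : X.Modules)

/-- Being killed by the ideal on all smaller affine opens follows from a finite statement. -/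
lemma smul_res_eq_zero {U V : X.affineOpens} (h : V.1 ≤ U.1) {s : Γ(M, U.1)}
    (hs : ∀ r ∈ K.ideal U, r • s = 0) {r : Γ(X, V.1)} (hr : r ∈ K.ideal V) : r • res M h s = 0 := by
  rw [← K.map_ideal (U := V) (V := U) h] at hr
  refine Submodule.span_induction (fun _ ha => ?_) (zero_smul _ _)
    (fun a b _ _ ha hb => by rw [add_smul, ha, hb, add_zero])
    (fun a b _ hb => by rw [smul_eq_mul, mul_smul, hb, smul_zero]) hr
  obtain ⟨a, ha, rfl⟩ := ha
  exact (res_smul M h a s).symm.trans (by rw [hs a ha, map_zero])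

/-- The sections killed by `K`. -/
def killedSub : Sub M where
  obj O :=
    { carrier := {s | ∀ (V : X.affineOpens) (h : V.1 ≤ O), ∀ r ∈ K.ideal V, r • res M h s = 0}
      zero_mem' := fun V h r _ => by rw [map_zero, smul_zero]
      add_mem' := fun ha hb V h r hr => by rw [map_add, smul_add, ha V h r hr, hb V h r hr, add_zero]
      smul_mem' := fun c a ha V h r hr => by rw [res_smul, smul_comm, ha V h r hr, smul_zero] }
  res_mem := fun {O' O} h {s} hs V hV r hr => by
    rw [res_res]; exact hs V (hV.trans h) r hr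
  local' := fun {O} s hs V hV r hr => by
    refine section_eq_of_locally fun x hx => ?_
    obtain ⟨W, hWO, hxW, hW⟩ := hs x (hV hx)
    obtain ⟨f, hf, hxf⟩ := V.2.exists_basicOpen_le (V := W) ⟨x, hxW⟩ hx
    refine ⟨_, X.basicOpen_le f, hxf, ?_⟩
    rw [map_zero, res_smul, res_res]
    have hr' : resO X (X.basicOpen_le f) r ∈ K.ideal (X.affineBasicOpen f) := by
      rw [← K.map_ideal (U := X.affineBasicOpen f) (V := V) (X.basicOpen_le f)]
      exact Ideal.mem_map_of_mem _ hr
    have := hW (X.affineBasicOpen f) hf _ hr'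
    rwa [res_res] at this

lemma mem_killedSub_affine (U : X.affineOpens) (s : Γ(M, U.1)) :
    s ∈ (killedSub K M).obj U.1 ↔ ∀ r ∈ K.ideal U, r • s = 0 :=
  ⟨fun h r hr => by
    have h1 := h U le_rfl r hr
    rwa [res_self] at h1,
    fun h _ hV _ hr => smul_res_eq_zero K M hV h hr⟩

variable {K M}

lemma isQCoh_killedSub (hK : ∀ U : X.affineOpens, (K.ideal U).FG) (hM : Coh.IsQCoh M) :
    Coh.IsQCoh (killedSub K M).toModules := by
  classical
  refine isQCoh_of_isLoc fun x => ?_
  obtain ⟨D, hD, hx⟩ := exists_affine_mem x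
  let S := killedSub K M
  have hloc := isLoc_of_isQCoh hD (hM := hM)
  refine ⟨D, hD, hx, fun f t => ?_, fun f s hs => ?_⟩
  · have ht : S.ι.app _ t ∈ S.obj (X.basicOpen f) := (S.range_ι_app _ _).mp ⟨t, rfl⟩
    obtain ⟨m, s, hs⟩ := hloc.exists_extend f (S.ι.app _ t)
    obtain ⟨G, hG⟩ := hK ⟨D, hD⟩
    have hk : ∀ a ∈ G, ∃ k, f ^ k • (a • s) = 0 := fun a ha => by
      refine hloc.exists_pow_smul_eq_zero f _ ?_
      rw [res_smul, hs, smul_comm]
      have ha' : resO X (X.basicOpen_le f) a ∈ K.ideal (X.affineBasicOpen (U := ⟨D, hD⟩) f) := by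
        rw [← K.map_ideal (U := X.affineBasicOpen (U := ⟨D, hD⟩) f) (V := ⟨D, hD⟩) (X.basicOpen_le f)]
        exact Ideal.mem_map_of_mem _ (hG ▸ Ideal.subset_span ha)
      have h1 := ht (X.affineBasicOpen (U := ⟨D, hD⟩) f) le_rfl _ ha'
      refine (congrArg (resO X (X.basicOpen_le f) f ^ m • ·) ?_).trans (smul_zero _)
      exact (congrArg (resO X (X.basicOpen_le f) a • ·) (res_self M _ _)).symm.trans h1
    choose! k hk using hk
    let N := G.sup k
    have hmem : f ^ N • s ∈ S.obj D := by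
      refine (mem_killedSub_affine K M ⟨D, hD⟩ _).2 fun r hr => ?_
      rw [← hG] at hr
      refine Submodule.span_induction (fun a ha => ?_) (zero_smul _ _)
        (fun a b _ _ ha hb => by rw [add_smul, ha, hb, add_zero])
        (fun a b _ hb => by rw [smul_eq_mul, mul_smul, hb, smul_zero]) hr
      have hle : k a ≤ N := Finset.le_sup ha
      rw [smul_comm, ← Nat.sub_add_cancel hle, pow_add, mul_smul, hk a ha, smul_zero]
    obtain ⟨s', hs'⟩ := (S.range_ι_app _ _).mpr hmem
    refine ⟨N + m, s', S.ι_app_injective _ ?_⟩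
    rw [← app_res, Scheme.Modules.Hom.app_smul, hs', res_smul, hs, map_pow, smul_smul, ← pow_add]
  · obtain ⟨k, hk⟩ := hloc.exists_pow_smul_eq_zero f (S.ι.app D s) (by rw [app_res, hs, map_zero])
    exact ⟨k, S.ι_app_injective _ (by rw [Scheme.Modules.Hom.app_smul, hk, map_zero])⟩

/-- A section of a module supported on the support of `K` is killed by a power of `K` on an affine open. -/
lemma exists_pow_killed (hK : ∀ U : X.affineOpens, (K.ideal U).FG) (hM : Coh.IsQCoh M)
    (hsupp : CohB1.support M ⊆ (K.support : Set X)) (U : X.affineOpens) (s : Γ(M, U.1)) :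
    ∃ n : ℕ, ∀ r ∈ K.ideal U ^ n, r • s = 0 := by
  let N : Ideal Γ(X, U.1) := (⊥ : Submodule Γ(X, U.1) Γ(M, U.1)).colon {s}
  have hrad : K.ideal U ≤ N.radical := fun a ha => by
    obtain ⟨k, hk⟩ := (isLoc_of_isQCoh U.2 (hM := hM)).exists_pow_smul_eq_zero a s (ext_germ M _ fun x hx => by
      refine germ_eq_zero_of_notMem hx _ fun hxs => ?_
      have hz : x ∈ (K.support : Set X) ∩ U.1 := ⟨hsupp hxs, X.basicOpen_le a hx⟩
      rw [K.coe_support_inter U] at hz
      exact (X.mem_zeroLocus_iff _ _).1 hz.1 a ha hx)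
    exact ⟨k, Submodule.mem_colon_singleton.2 (by rw [Submodule.mem_bot]; exact hk)⟩
  obtain ⟨n, hn⟩ := Ideal.exists_pow_le_of_le_radical_of_fg hrad (hK U)
  exact ⟨n, fun r hr => by
    have := Submodule.mem_colon_singleton.1 (hn hr)
    rwa [Submodule.mem_bot] at this⟩

/-- Sections over an open disjoint from the support vanish. -/
lemma eq_zero_of_disjoint {T : Set X} (hM : CohB1.support M ⊆ T) {O : X.Opens} (h : ∀ x ∈ O, x ∉ T)
    (s : Γ(M, O)) : s = 0 :=
  ext_germ M _ fun x hx => germ_eq_zero_of_notMem hx _ fun hs => h x hx (hM hs)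

/-- Sections over an open with compact trace on the support are killed by a power. -/
lemma exists_mem_killedSub (hK : ∀ U : X.affineOpens, (K.ideal U).FG) (hM : Coh.IsQCoh M)
    (hsupp : CohB1.support M ⊆ (K.support : Set X)) {O : X.Opens}
    (hc : IsCompact ((O : Set X) ∩ (K.support : Set X))) (s : Γ(M, O)) :
    ∃ n₀ : ℕ, ∀ n, n₀ ≤ n → s ∈ (killedSub (K ^ n) M).obj O := by
  classical
  have hloc : ∀ x : ↥((O : Set X) ∩ (K.support : Set X)), ∃ A : X.affineOpens, x.1 ∈ A.1 ∧ A.1 ≤ O := fun x => by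
    obtain ⟨A, hA, hxA, hAO⟩ := exists_isAffineOpen_mem_and_subset (X := X) (U := O) x.2.1
    exact ⟨⟨A, hA⟩, hxA, hAO⟩
  choose A hxA hAO using hloc
  obtain ⟨t, ht⟩ := hc.elim_finite_subcover (fun x => ((A x).1 : Set X)) (fun x => (A x).1.2)
    fun x hx => Set.mem_iUnion.mpr ⟨⟨x, hx⟩, hxA _⟩
  choose n hn using fun x => exists_pow_killed hK hM hsupp (A x) (res M (hAO x) s)
  refine ⟨t.sup n, fun N hN => (killedSub (K ^ N) M).local' s fun x hx => ?_⟩
  by_cases hxK : x ∈ (K.support : Set X)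
  · obtain ⟨y, hy, hxy⟩ := Set.mem_iUnion₂.mp (ht ⟨hx, hxK⟩)
    refine ⟨_, hAO y, hxy, (mem_killedSub_affine _ _ (A y) _).2 fun r hr => hn y r ?_⟩
    rw [Scheme.IdealSheafData.ideal_pow, Pi.pow_apply] at hr
    exact Ideal.pow_le_pow_right ((Finset.le_sup hy).trans hN) hr
  · refine ⟨O ⊓ K.support.compl, inf_le_left, ⟨hx, hxK⟩, ?_⟩
    rw [eq_zero_of_disjoint hsupp (O := O ⊓ K.support.compl) (fun y hy => hy.2) (res M inf_le_left s)]
    exact zero_mem _

end Groth.Agent.StratCoh
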